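import Cfsg.Agent.Lib.Helper6.TCD.HeZ.GTP0
import Cfsg.Agent.Lib.Helper6.TCD.HeZ.GTP1
import Cfsg.Agent.Lib.Helper6.TCD.HeZ.GTP2
set_option autoImplicit false
namespace Cfsg.Agent.Lib.Helper6.TCD.HeZ
noncomputable def GTT0 (i : Nat) : Nat := Bool.rec (GTP0N62 i) (GTP1N62 i) (Nat.ble 65536 i)
noncomputable def GT (i : Nat) : Nat := Bool.rec (GTT0 i) (GTP2N54 i) (Nat.ble 131072 i)
end Cfsg.Agent.Lib.Helper6.TCD.HeZ
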