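import Cfsg.Agent.Lib.Helper6.TCD.HeZ.NCP0
import Cfsg.Agent.Lib.Helper6.TCD.HeZ.NCP1
import Cfsg.Agent.Lib.Helper6.TCD.HeZ.NCP2
import Cfsg.Agent.Lib.Helper6.TCD.HeZ.NCP3
import Cfsg.Agent.Lib.Helper6.TCD.HeZ.NCP4
import Cfsg.Agent.Lib.Helper6.TCD.HeZ.NCP5
set_option autoImplicit false
namespace Cfsg.Agent.Lib.Helper6.TCD.HeZ
noncomputable def NCT0 (i : Nat) : Nat := Bool.rec (NCP0N62 i) (NCP1N62 i) (Nat.ble 32768 i)
noncomputable def NCT1 (i : Nat) : Nat := Bool.rec (NCT0 i) (NCP2N62 i) (Nat.ble 65536 i)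
noncomputable def NCT2 (i : Nat) : Nat := Bool.rec (NCP3N62 i) (NCP4N62 i) (Nat.ble 131072 i)
noncomputable def NCT3 (i : Nat) : Nat := Bool.rec (NCT2 i) (NCP5N48 i) (Nat.ble 163840 i)
noncomputable def NC (i : Nat) : Nat := Bool.rec (NCT1 i) (NCT3 i) (Nat.ble 98304 i)
end Cfsg.Agent.Lib.Helper6.TCD.HeZ
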