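import Cfsg.Agent.Lib.Helper6.TCD.HeZ.P3P0
import Cfsg.Agent.Lib.Helper6.TCD.HeZ.P3P1
set_option autoImplicit false
namespace Cfsg.Agent.Lib.Helper6.TCD.HeZ
noncomputable def P3 (i : Nat) : Nat := Bool.rec (P3P0N62 i) (P3P1N26 i) (Nat.ble 131072 i)
end Cfsg.Agent.Lib.Helper6.TCD.HeZ
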