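import Cfsg.Agent.Lib.Helper6.TCD.HeZ.SCP0
import Cfsg.Agent.Lib.Helper6.TCD.HeZ.SCP1
import Cfsg.Agent.Lib.Helper6.TCD.HeZ.SCP2
import Cfsg.Agent.Lib.Helper6.TCD.HeZ.SCP3
import Cfsg.Agent.Lib.Helper6.TCD.HeZ.SCP4
import Cfsg.Agent.Lib.Helper6.TCD.HeZ.SCP5
import Cfsg.Agent.Lib.Helper6.TCD.HeZ.SCP6
import Cfsg.Agent.Lib.Helper6.TCD.HeZ.SCP7
import Cfsg.Agent.Lib.Helper6.TCD.HeZ.SCP8
import Cfsg.Agent.Lib.Helper6.TCD.HeZ.SCP9
import Cfsg.Agent.Lib.Helper6.TCD.HeZ.SCP10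
import Cfsg.Agent.Lib.Helper6.TCD.HeZ.SCP11
import Cfsg.Agent.Lib.Helper6.TCD.HeZ.SCP12
import Cfsg.Agent.Lib.Helper6.TCD.HeZ.SCP13
import Cfsg.Agent.Lib.Helper6.TCD.HeZ.SCP14
import Cfsg.Agent.Lib.Helper6.TCD.HeZ.SCP15
import Cfsg.Agent.Lib.Helper6.TCD.HeZ.SCP16
import Cfsg.Agent.Lib.Helper6.TCD.HeZ.SCP17
import Cfsg.Agent.Lib.Helper6.TCD.HeZ.SCP18
import Cfsg.Agent.Lib.Helper6.TCD.HeZ.SCP19
import Cfsg.Agent.Lib.Helper6.TCD.HeZ.SCP20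
set_option autoImplicit false
namespace Cfsg.Agent.Lib.Helper6.TCD.HeZ
noncomputable def SCT0 (i : Nat) : Nat := Bool.rec (SCP0N62 i) (SCP1N62 i) (Nat.ble 65536 i)
noncomputable def SCT1 (i : Nat) : Nat := Bool.rec (SCT0 i) (SCP2N62 i) (Nat.ble 131072 i)
noncomputable def SCT2 (i : Nat) : Nat := Bool.rec (SCP3N62 i) (SCP4N62 i) (Nat.ble 262144 i)
noncomputable def SCT3 (i : Nat) : Nat := Bool.rec (SCT2 i) (SCP5N62 i) (Nat.ble 327680 i)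
noncomputable def SCT4 (i : Nat) : Nat := Bool.rec (SCT1 i) (SCT3 i) (Nat.ble 196608 i)
noncomputable def SCT5 (i : Nat) : Nat := Bool.rec (SCP6N62 i) (SCP7N62 i) (Nat.ble 458752 i)
noncomputable def SCT6 (i : Nat) : Nat := Bool.rec (SCT5 i) (SCP8N62 i) (Nat.ble 524288 i)
noncomputable def SCT7 (i : Nat) : Nat := Bool.rec (SCP9N62 i) (SCP10N62 i) (Nat.ble 655360 i)
noncomputable def SCT8 (i : Nat) : Nat := Bool.rec (SCT6 i) (SCT7 i) (Nat.ble 589824 i)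
noncomputable def SCT9 (i : Nat) : Nat := Bool.rec (SCT4 i) (SCT8 i) (Nat.ble 393216 i)
noncomputable def SCT10 (i : Nat) : Nat := Bool.rec (SCP11N62 i) (SCP12N62 i) (Nat.ble 786432 i)
noncomputable def SCT11 (i : Nat) : Nat := Bool.rec (SCT10 i) (SCP13N62 i) (Nat.ble 851968 i)
noncomputable def SCT12 (i : Nat) : Nat := Bool.rec (SCP14N62 i) (SCP15N62 i) (Nat.ble 983040 i)
noncomputable def SCT13 (i : Nat) : Nat := Bool.rec (SCT11 i) (SCT12 i) (Nat.ble 917504 i)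
noncomputable def SCT14 (i : Nat) : Nat := Bool.rec (SCP16N62 i) (SCP17N62 i) (Nat.ble 1114112 i)
noncomputable def SCT15 (i : Nat) : Nat := Bool.rec (SCT14 i) (SCP18N62 i) (Nat.ble 1179648 i)
noncomputable def SCT16 (i : Nat) : Nat := Bool.rec (SCP19N62 i) (SCP20N12 i) (Nat.ble 1310720 i)
noncomputable def SCT17 (i : Nat) : Nat := Bool.rec (SCT15 i) (SCT16 i) (Nat.ble 1245184 i)
noncomputable def SCT18 (i : Nat) : Nat := Bool.rec (SCT13 i) (SCT17 i) (Nat.ble 1048576 i)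
noncomputable def SC (i : Nat) : Nat := Bool.rec (SCT9 i) (SCT18 i) (Nat.ble 720896 i)
end Cfsg.Agent.Lib.Helper6.TCD.HeZ
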