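set_option autoImplicit false
namespace Cfsg.Agent.Lib.Helper6.TCD.HeZ
noncomputable def WI (i : Nat) : Nat := Nat.land (Nat.shiftRight 0x1031f810fc047e003e031f010f8047c003f0a1e848f4207a0e3d061e828f4107a063d021e808f40078143c091e040f01c780c3c051e020f00c78043c011e000f42476103b071d830ec1476083b031d810ec0476003a091d040e81c740c3a051d020e80c74043a011d000ec10720639021c808e400700838031c010e004700038011b000d8046800340119000c8046000300117000b80458002c0115000a8045000280113000980448002401110008804400020010f000780438001c010d0006804300018010b0005804280014010900048042000100107000380018000a000400018000800020000 (Nat.mul 17 (Nat.land i 255))) 131071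
end Cfsg.Agent.Lib.Helper6.TCD.HeZ
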