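import Cfsg.Agent.Lib.Helper6.TC13
import Cfsg.Agent.Lib.Helper6.TCD.HeZ.Par
set_option autoImplicit false
set_option maxRecDepth 1000000
set_option Elab.async false
open Cfsg.Agent.Lib.Helper6.TC
namespace Cfsg.Agent.Lib.Helper6.TCD.HeZ
theorem chkR19_3 : chkFix R19 172525 14900 = true := by decide +kernel
theorem chkR20_0 : chkFix R20 0 47600 = true := by decide +kernel
end Cfsg.Agent.Lib.Helper6.TCD.HeZ
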