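import Cfsg.Agent.Lib.Helper6.TCD.HeZ.CS0
import Cfsg.Agent.Lib.Helper6.TCD.HeZ.CS1
import Cfsg.Agent.Lib.Helper6.TCD.HeZ.CS2
import Cfsg.Agent.Lib.Helper6.TCD.HeZ.CS3
import Cfsg.Agent.Lib.Helper6.TCD.HeZ.CS4
import Cfsg.Agent.Lib.Helper6.TCD.HeZ.CS5
import Cfsg.Agent.Lib.Helper6.TCD.HeZ.CS6
import Cfsg.Agent.Lib.Helper6.TCD.HeZ.CS7
import Cfsg.Agent.Lib.Helper6.TCD.HeZ.CS8
import Cfsg.Agent.Lib.Helper6.TCD.HeZ.CS9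
import Cfsg.Agent.Lib.Helper6.TCD.HeZ.CS10
import Cfsg.Agent.Lib.Helper6.TCD.HeZ.CS11
import Cfsg.Agent.Lib.Helper6.TCD.HeZ.CS12
import Cfsg.Agent.Lib.Helper6.TCD.HeZ.CS13
import Cfsg.Agent.Lib.Helper6.TCD.HeZ.CS14
import Cfsg.Agent.Lib.Helper6.TCD.HeZ.CS15
import Cfsg.Agent.Lib.Helper6.TCD.HeZ.CS16
import Cfsg.Agent.Lib.Helper6.TCD.HeZ.CS17
import Cfsg.Agent.Lib.Helper6.TCD.HeZ.CS18
import Cfsg.Agent.Lib.Helper6.TCD.HeZ.CS19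
import Cfsg.Agent.Lib.Helper6.TCD.HeZ.CS20
import Cfsg.Agent.Lib.Helper6.TCD.HeZ.CS21
import Cfsg.Agent.Lib.Helper6.TCD.HeZ.CS22
import Cfsg.Agent.Lib.Helper6.TCD.HeZ.CS23
import Cfsg.Agent.Lib.Helper6.TCD.HeZ.CS24
import Cfsg.Agent.Lib.Helper6.TCD.HeZ.CS25
import Cfsg.Agent.Lib.Helper6.TCD.HeZ.CS26
import Cfsg.Agent.Lib.Helper6.TCD.HeZ.CS27
import Cfsg.Agent.Lib.Helper6.TCD.HeZ.CS28
import Cfsg.Agent.Lib.Helper6.TCD.HeZ.CS29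
import Cfsg.Agent.Lib.Helper6.TCD.HeZ.CS30
import Cfsg.Agent.Lib.Helper6.TCD.HeZ.CS31
import Cfsg.Agent.Lib.Helper6.TCD.HeZ.CS32
import Cfsg.Agent.Lib.Helper6.TCD.HeZ.CS33
import Cfsg.Agent.Lib.Helper6.TCD.HeZ.CS34
import Cfsg.Agent.Lib.Helper6.TCD.HeZ.CS35
import Cfsg.Agent.Lib.Helper6.TCD.HeZ.CS36
import Cfsg.Agent.Lib.Helper6.TCD.HeZ.CS37
import Cfsg.Agent.Lib.Helper6.TCD.HeZ.CS38
import Cfsg.Agent.Lib.Helper6.TCD.HeZ.CS39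
import Cfsg.Agent.Lib.Helper6.TCD.HeZ.CS40
import Cfsg.Agent.Lib.Helper6.TCD.HeZ.CS41
import Cfsg.Agent.Lib.Helper6.TCD.HeZ.CS42
import Cfsg.Agent.Lib.Helper6.TCD.HeZ.CS43
import Cfsg.Agent.Lib.Helper6.TCD.HeZ.CS44
import Cfsg.Agent.Lib.Helper6.TCD.HeZ.CS45
import Cfsg.Agent.Lib.Helper6.TCD.HeZ.CS46
import Cfsg.Agent.Lib.Helper6.TCD.HeZ.CS47
import Cfsg.Agent.Lib.Helper6.TCD.HeZ.CS48
import Cfsg.Agent.Lib.Helper6.TCD.HeZ.CS49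
import Cfsg.Agent.Lib.Helper6.TCD.HeZ.CS50
import Cfsg.Agent.Lib.Helper6.TCD.HeZ.CS51
import Cfsg.Agent.Lib.Helper6.TCD.HeZ.CS52
import Cfsg.Agent.Lib.Helper6.TCD.HeZ.CS53
import Cfsg.Agent.Lib.Helper6.TCD.HeZ.CS54
import Cfsg.Agent.Lib.Helper6.TCD.HeZ.CS55
import Cfsg.Agent.Lib.Helper6.TCD.HeZ.CS56
import Cfsg.Agent.Lib.Helper6.TCD.HeZ.CS57
import Cfsg.Agent.Lib.Helper6.TCD.HeZ.CS58
import Cfsg.Agent.Lib.Helper6.TCD.HeZ.CS59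
import Cfsg.Agent.Lib.Helper6.TCD.HeZ.CS60
import Cfsg.Agent.Lib.Helper6.TCD.HeZ.CS61
import Cfsg.Agent.Lib.Helper6.TCD.HeZ.CS62
import Cfsg.Agent.Lib.Helper6.TCD.HeZ.CS63
import Cfsg.Agent.Lib.Helper6.TCD.HeZ.CS64
import Cfsg.Agent.Lib.Helper6.TCD.HeZ.CS65
import Cfsg.Agent.Lib.Helper6.TCD.HeZ.CS66
import Cfsg.Agent.Lib.Helper6.TCD.HeZ.CS67
import Cfsg.Agent.Lib.Helper6.TCD.HeZ.CS68
import Cfsg.Agent.Lib.Helper6.TCD.HeZ.CS69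
import Cfsg.Agent.Lib.Helper6.TCD.HeZ.CS70
import Cfsg.Agent.Lib.Helper6.TCD.HeZ.CS71
import Cfsg.Agent.Lib.Helper6.TCD.HeZ.CS72
import Cfsg.Agent.Lib.Helper6.TCD.HeZ.CS73
import Cfsg.Agent.Lib.Helper6.TCD.HeZ.CS74
import Cfsg.Agent.Lib.Helper6.TCD.HeZ.CS75
import Cfsg.Agent.Lib.Helper6.TCD.HeZ.CS76
import Cfsg.Agent.Lib.Helper6.TCD.HeZ.CS77
import Cfsg.Agent.Lib.Helper6.TCD.HeZ.CS78
import Cfsg.Agent.Lib.Helper6.TCD.HeZ.CS79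
import Cfsg.Agent.Lib.Helper6.TCD.HeZ.CS80
import Cfsg.Agent.Lib.Helper6.TCD.HeZ.CS81
import Cfsg.Agent.Lib.Helper6.TCD.HeZ.CS82
import Cfsg.Agent.Lib.Helper6.TCD.HeZ.CS83
import Cfsg.Agent.Lib.Helper6.TCD.HeZ.CS84
import Cfsg.Agent.Lib.Helper6.TCD.HeZ.CS85
import Cfsg.Agent.Lib.Helper6.TCD.HeZ.CS86
import Cfsg.Agent.Lib.Helper6.TCD.HeZ.CS87
import Cfsg.Agent.Lib.Helper6.TCD.HeZ.CS88
import Cfsg.Agent.Lib.Helper6.TCD.HeZ.CS89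
import Cfsg.Agent.Lib.Helper6.TCD.HeZ.CS90
import Cfsg.Agent.Lib.Helper6.TCD.HeZ.CS91
import Cfsg.Agent.Lib.Helper6.TCD.HeZ.CS92
import Cfsg.Agent.Lib.Helper6.TCD.HeZ.CS93
import Cfsg.Agent.Lib.Helper6.TCD.HeZ.CS94
import Cfsg.Agent.Lib.Helper6.TCD.HeZ.CS95
import Cfsg.Agent.Lib.Helper6.TCD.HeZ.CS96
import Cfsg.Agent.Lib.Helper6.TCD.HeZ.CS97
import Cfsg.Agent.Lib.Helper6.TCD.HeZ.CS98
import Cfsg.Agent.Lib.Helper6.TCD.HeZ.CS99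
import Cfsg.Agent.Lib.Helper6.TCD.HeZ.CS100
import Cfsg.Agent.Lib.Helper6.TCD.HeZ.CS101
import Cfsg.Agent.Lib.Helper6.TCD.HeZ.CS102
import Cfsg.Agent.Lib.Helper6.TCD.HeZ.CS103
import Cfsg.Agent.Lib.Helper6.TCD.HeZ.CS104
import Cfsg.Agent.Lib.Helper6.TCD.HeZ.CS105
import Cfsg.Agent.Lib.Helper6.TCD.HeZ.CS106
import Cfsg.Agent.Lib.Helper6.TCD.HeZ.CS107
import Cfsg.Agent.Lib.Helper6.TCD.HeZ.CS108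
import Cfsg.Agent.Lib.Helper6.TCD.HeZ.CS109
import Cfsg.Agent.Lib.Helper6.TCD.HeZ.CS110
import Cfsg.Agent.Lib.Helper6.TCD.HeZ.CS111
import Cfsg.Agent.Lib.Helper6.TCD.HeZ.CS112
import Cfsg.Agent.Lib.Helper6.TCD.HeZ.CS113
import Cfsg.Agent.Lib.Helper6.TCD.HeZ.CS114
import Cfsg.Agent.Lib.Helper6.TCD.HeZ.CS115
import Cfsg.Agent.Lib.Helper6.TCD.HeZ.CS116
import Cfsg.Agent.Lib.Helper6.TCD.HeZ.CS117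
import Cfsg.Agent.Lib.Helper6.TCD.HeZ.CS118
import Cfsg.Agent.Lib.Helper6.TCD.HeZ.CS119
import Cfsg.Agent.Lib.Helper6.TCD.HeZ.CS120
import Cfsg.Agent.Lib.Helper6.TCD.HeZ.CS121
import Cfsg.Agent.Lib.Helper6.TCD.HeZ.CS122
import Cfsg.Agent.Lib.Helper6.TCD.HeZ.CS123
import Cfsg.Agent.Lib.Helper6.TCD.HeZ.CS124
import Cfsg.Agent.Lib.Helper6.TCD.HeZ.CS125
import Cfsg.Agent.Lib.Helper6.TCD.HeZ.CS126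
import Cfsg.Agent.Lib.Helper6.TCD.HeZ.CS127
import Cfsg.Agent.Lib.Helper6.TCD.HeZ.CS128
import Cfsg.Agent.Lib.Helper6.TCD.HeZ.CS129
import Cfsg.Agent.Lib.Helper6.TCD.HeZ.CS130
import Cfsg.Agent.Lib.Helper6.TCD.HeZ.CS131
import Cfsg.Agent.Lib.Helper6.TCD.HeZ.CS132
import Cfsg.Agent.Lib.Helper6.TCD.HeZ.CS133
import Cfsg.Agent.Lib.Helper6.TCD.HeZ.CS134
import Cfsg.Agent.Lib.Helper6.TCD.HeZ.CS135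
import Cfsg.Agent.Lib.Helper6.TCD.HeZ.CS136
import Cfsg.Agent.Lib.Helper6.TCD.HeZ.CS137
import Cfsg.Agent.Lib.Helper6.TCD.HeZ.CS138
import Cfsg.Agent.Lib.Helper6.TCD.HeZ.CS139
import Cfsg.Agent.Lib.Helper6.TCD.HeZ.CS140
import Cfsg.Agent.Lib.Helper6.TCD.HeZ.CS141
import Cfsg.Agent.Lib.Helper6.TCD.HeZ.CS142
import Cfsg.Agent.Lib.Helper6.TCD.HeZ.CS143
import Cfsg.Agent.Lib.Helper6.TCD.HeZ.CS144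
import Cfsg.Agent.Lib.Helper6.TCD.HeZ.CS145
import Cfsg.Agent.Lib.Helper6.TCD.HeZ.CS146
import Cfsg.Agent.Lib.Helper6.TCD.HeZ.CS147
import Cfsg.Agent.Lib.Helper6.TCD.HeZ.CS148
import Cfsg.Agent.Lib.Helper6.TCD.HeZ.CS149
import Cfsg.Agent.Lib.Helper6.TCD.HeZ.CS150
import Cfsg.Agent.Lib.Helper6.TCD.HeZ.CS151
import Cfsg.Agent.Lib.Helper6.TCD.HeZ.CS152
import Cfsg.Agent.Lib.Helper6.TCD.HeZ.CS153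
import Cfsg.Agent.Lib.Helper6.TCD.HeZ.CS154
import Cfsg.Agent.Lib.Helper6.TCD.HeZ.CS155
import Cfsg.Agent.Lib.Helper6.TCD.HeZ.CS156
import Cfsg.Agent.Lib.Helper6.TCD.HeZ.CS157
import Cfsg.Agent.Lib.Helper6.TCD.HeZ.CS158
import Cfsg.Agent.Lib.Helper6.TCD.HeZ.CS159
import Cfsg.Agent.Lib.Helper6.TCD.HeZ.CS160
import Cfsg.Agent.Lib.Helper6.TCD.HeZ.CS161
import Cfsg.Agent.Lib.Helper6.TCD.HeZ.CS162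
import Cfsg.Agent.Lib.Helper6.TCD.HeZ.CS163
import Cfsg.Agent.Lib.Helper6.TCD.HeZ.CS164
import Cfsg.Agent.Lib.Helper6.TCD.HeZ.CS165
import Cfsg.Agent.Lib.Helper6.TCD.HeZ.CN0
import Cfsg.Agent.Lib.Helper6.TCD.HeZ.CN1
import Cfsg.Agent.Lib.Helper6.TCD.HeZ.CN2
import Cfsg.Agent.Lib.Helper6.TCD.HeZ.CN3
import Cfsg.Agent.Lib.Helper6.TCD.HeZ.CN4
import Cfsg.Agent.Lib.Helper6.TCD.HeZ.CN5
import Cfsg.Agent.Lib.Helper6.TCD.HeZ.CN6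
import Cfsg.Agent.Lib.Helper6.TCD.HeZ.CN7
import Cfsg.Agent.Lib.Helper6.TCD.HeZ.CN8
import Cfsg.Agent.Lib.Helper6.TCD.HeZ.CN9
import Cfsg.Agent.Lib.Helper6.TCD.HeZ.CN10
import Cfsg.Agent.Lib.Helper6.TCD.HeZ.CN11
import Cfsg.Agent.Lib.Helper6.TCD.HeZ.CN12
import Cfsg.Agent.Lib.Helper6.TCD.HeZ.CN13
import Cfsg.Agent.Lib.Helper6.TCD.HeZ.CN14
import Cfsg.Agent.Lib.Helper6.TCD.HeZ.CN15
import Cfsg.Agent.Lib.Helper6.TCD.HeZ.CN16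
import Cfsg.Agent.Lib.Helper6.TCD.HeZ.CN17
import Cfsg.Agent.Lib.Helper6.TCD.HeZ.CN18
import Cfsg.Agent.Lib.Helper6.TCD.HeZ.CN19
import Cfsg.Agent.Lib.Helper6.TCD.HeZ.CN20
import Cfsg.Agent.Lib.Helper6.TCD.HeZ.CN21
import Cfsg.Agent.Lib.Helper6.TCD.HeZ.CN22
import Cfsg.Agent.Lib.Helper6.TCD.HeZ.CN23
import Cfsg.Agent.Lib.Helper6.TCD.HeZ.CN24
import Cfsg.Agent.Lib.Helper6.TCD.HeZ.CN25
import Cfsg.Agent.Lib.Helper6.TCD.HeZ.CN26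
import Cfsg.Agent.Lib.Helper6.TCD.HeZ.CN27
import Cfsg.Agent.Lib.Helper6.TCD.HeZ.CN28
import Cfsg.Agent.Lib.Helper6.TCD.HeZ.CN29
import Cfsg.Agent.Lib.Helper6.TCD.HeZ.CN30
import Cfsg.Agent.Lib.Helper6.TCD.HeZ.CN31
import Cfsg.Agent.Lib.Helper6.TCD.HeZ.CC
import Cfsg.Agent.Lib.Helper6.TCD.HeZ.CPa0
import Cfsg.Agent.Lib.Helper6.TCD.HeZ.CPa1
import Cfsg.Agent.Lib.Helper6.TCD.HeZ.CPa2
import Cfsg.Agent.Lib.Helper6.TCD.HeZ.CPa3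
import Cfsg.Agent.Lib.Helper6.TCD.HeZ.CPa4
import Cfsg.Agent.Lib.Helper6.TCD.HeZ.CPa5
import Cfsg.Agent.Lib.Helper6.TCD.HeZ.CPa6
import Cfsg.Agent.Lib.Helper6.TCD.HeZ.CPb
import Cfsg.Agent.Lib.Helper6.TCD.HeZ.CR0
import Cfsg.Agent.Lib.Helper6.TCD.HeZ.CR1
import Cfsg.Agent.Lib.Helper6.TCD.HeZ.CR2
import Cfsg.Agent.Lib.Helper6.TCD.HeZ.CR3
import Cfsg.Agent.Lib.Helper6.TCD.HeZ.CR4
import Cfsg.Agent.Lib.Helper6.TCD.HeZ.CR5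
import Cfsg.Agent.Lib.Helper6.TCD.HeZ.CR6
import Cfsg.Agent.Lib.Helper6.TCD.HeZ.CR7
import Cfsg.Agent.Lib.Helper6.TCD.HeZ.CR8
import Cfsg.Agent.Lib.Helper6.TCD.HeZ.CR9
import Cfsg.Agent.Lib.Helper6.TCD.HeZ.CR10
import Cfsg.Agent.Lib.Helper6.TCD.HeZ.CR11
import Cfsg.Agent.Lib.Helper6.TCD.HeZ.CR12
import Cfsg.Agent.Lib.Helper6.TCD.HeZ.CR13
import Cfsg.Agent.Lib.Helper6.TCD.HeZ.CR14
import Cfsg.Agent.Lib.Helper6.TCD.HeZ.CR15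
import Cfsg.Agent.Lib.Helper6.TCD.HeZ.CR16
import Cfsg.Agent.Lib.Helper6.TCD.HeZ.CR17
import Cfsg.Agent.Lib.Helper6.TCD.HeZ.CR18
import Cfsg.Agent.Lib.Helper6.TCD.HeZ.CR19
import Cfsg.Agent.Lib.Helper6.TCD.HeZ.CR20
import Cfsg.Agent.Lib.Helper6.TCD.HeZ.CR21
import Cfsg.Agent.Lib.Helper6.TCD.HeZ.CR22
import Cfsg.Agent.Lib.Helper6.TCD.HeZ.CR23
import Cfsg.Agent.Lib.Helper6.TCD.HeZ.CR24
import Cfsg.Agent.Lib.Helper6.TCD.HeZ.CR25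
import Cfsg.Agent.Lib.Helper6.TCD.HeZ.CR26
import Cfsg.Agent.Lib.Helper6.TCD.HeZ.CR27
import Cfsg.Agent.Lib.Helper6.TCD.HeZ.CR28
import Cfsg.Agent.Lib.Helper6.TCD.HeZ.CR29
import Cfsg.Agent.Lib.Helper6.TCD.HeZ.CR30
import Cfsg.Agent.Lib.Helper6.TCD.HeZ.CR31
import Cfsg.Agent.Lib.Helper6.TCD.HeZ.CR32
import Cfsg.Agent.Lib.Helper6.TCD.HeZ.CR33
import Cfsg.Agent.Lib.Helper6.TCD.HeZ.CR34
import Cfsg.Agent.Lib.Helper6.TCD.HeZ.CR35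
import Cfsg.Agent.Lib.Helper6.TCD.HeZ.CR36
import Cfsg.Agent.Lib.Helper6.TCD.HeZ.CR37
import Cfsg.Agent.Lib.Helper6.TCD.HeZ.CR38
import Cfsg.Agent.Lib.Helper6.TCD.HeZ.CR39
import Cfsg.Agent.Lib.Helper6.TCD.HeZ.CR40
import Cfsg.Agent.Lib.Helper6.TCD.HeZ.CR41
import Cfsg.Agent.Lib.Helper6.TCD.HeZ.CR42
import Cfsg.Agent.Lib.Helper6.TCD.HeZ.CR43
import Cfsg.Agent.Lib.Helper6.TCD.HeZ.CR44
import Cfsg.Agent.Lib.Helper6.TCD.HeZ.CR45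
import Cfsg.Agent.Lib.Helper6.TCD.HeZ.CR46
import Cfsg.Agent.Lib.Helper6.TCD.HeZ.CR47
import Cfsg.Agent.Lib.Helper6.TCD.HeZ.CR48
import Cfsg.Agent.Lib.Helper6.TCD.HeZ.CR49
import Cfsg.Agent.Lib.Helper6.TCD.HeZ.CR50
import Cfsg.Agent.Lib.Helper6.TCD.HeZ.CR51
import Cfsg.Agent.Lib.Helper6.TCD.HeZ.CR52
import Cfsg.Agent.Lib.Helper6.TCD.HeZ.CR53
import Cfsg.Agent.Lib.Helper6.TCD.HeZ.CR54
import Cfsg.Agent.Lib.Helper6.TCD.HeZ.CR55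
import Cfsg.Agent.Lib.Helper6.TCD.HeZ.CR56
import Cfsg.Agent.Lib.Helper6.TCD.HeZ.CR57
import Cfsg.Agent.Lib.Helper6.TCD.HeZ.CR58
import Cfsg.Agent.Lib.Helper6.TCD.HeZ.CR59
import Cfsg.Agent.Lib.Helper6.TCD.HeZ.CR60
import Cfsg.Agent.Lib.Helper6.TCD.HeZ.CR61
import Cfsg.Agent.Lib.Helper6.TCD.HeZ.CR62
import Cfsg.Agent.Lib.Helper6.TCD.HeZ.CR63
import Cfsg.Agent.Lib.Helper6.TCD.HeZ.CR64
import Cfsg.Agent.Lib.Helper6.TCD.HeZ.CR65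
import Cfsg.Agent.Lib.Helper6.TCD.HeZ.CR66
import Cfsg.Agent.Lib.Helper6.TCD.HeZ.CR67
import Cfsg.Agent.Lib.Helper6.TCD.HeZ.CR68
import Cfsg.Agent.Lib.Helper6.TCD.HeZ.CR69
import Cfsg.Agent.Lib.Helper6.TCD.HeZ.CR70
import Cfsg.Agent.Lib.Helper6.TCD.HeZ.CR71
import Cfsg.Agent.Lib.Helper6.TCD.HeZ.CR72
import Cfsg.Agent.Lib.Helper6.TCD.HeZ.CR73
import Cfsg.Agent.Lib.Helper6.TCD.HeZ.CR74
import Cfsg.Agent.Lib.Helper6.TCD.HeZ.CR75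
import Cfsg.Agent.Lib.Helper6.TCD.HeZ.CR76
import Cfsg.Agent.Lib.Helper6.TCD.HeZ.CR77
import Cfsg.Agent.Lib.Helper6.TCD.HeZ.CR78
import Cfsg.Agent.Lib.Helper6.TCD.HeZ.CR79
import Cfsg.Agent.Lib.Helper6.TCD.HeZ.CR80
import Cfsg.Agent.Lib.Helper6.TCD.HeZ.CR81
import Cfsg.Agent.Lib.Helper6.TCD.HeZ.CR82
import Cfsg.Agent.Lib.Helper6.TCD.HeZ.CR83
import Cfsg.Agent.Lib.Helper6.TCD.HeZ.CR84
import Cfsg.Agent.Lib.Helper6.TCD.HeZ.CR85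
import Cfsg.Agent.Lib.Helper6.TCD.HeZ.CR86
import Cfsg.Agent.Lib.Helper6.TCD.HeZ.CR87
import Cfsg.Agent.Lib.Helper6.TCD.HeZ.CR88
import Cfsg.Agent.Lib.Helper6.TCD.HeZ.CR89
import Cfsg.Agent.Lib.Helper6.TCD.HeZ.CR90
import Cfsg.Agent.Lib.Helper6.TCD.HeZ.CR91
import Cfsg.Agent.Lib.Helper6.TCD.HeZ.CR92
import Cfsg.Agent.Lib.Helper6.TCD.HeZ.CR93
import Cfsg.Agent.Lib.Helper6.TCD.HeZ.CR94
import Cfsg.Agent.Lib.Helper6.TCD.HeZ.CR95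
import Cfsg.Agent.Lib.Helper6.TCD.HeZ.CR96
import Cfsg.Agent.Lib.Helper6.TCD.HeZ.CR97
import Cfsg.Agent.Lib.Helper6.TCD.HeZ.CR98
import Cfsg.Agent.Lib.Helper6.TCD.HeZ.CR99
import Cfsg.Agent.Lib.Helper6.TCD.HeZ.CR100
import Cfsg.Agent.Lib.Helper6.TCD.HeZ.CR101
import Cfsg.Agent.Lib.Helper6.TCD.HeZ.CR102
import Cfsg.Agent.Lib.Helper6.TCD.HeZ.CR103
import Cfsg.Agent.Lib.Helper6.TCD.HeZ.CR104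
import Cfsg.Agent.Lib.Helper6.TCD.HeZ.CR105
import Cfsg.Agent.Lib.Helper6.TCD.HeZ.CR106
import Cfsg.Agent.Lib.Helper6.TCD.HeZ.CR107
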